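import Cfsg.Agent.LThreeM.FiPar
import Cfsg.Agent.H491.Rad3.FiTF

/-!
# Elements of order 3 of `Fi24'` (helper48, for S3826)

* `three22'` : an element `g` of order 3 of `Fi22` moves a transposition to a different commuting one, or the number of
  the transpositions commuting with `g` is even and not zero (Benson's lemma);
* `triple23` : an element of order 3 of `Fi23` commutes with the product of three commuting transpositions;
* `exists_M` : every element of order 3 of `Fi24'` is conjugate to an element of `M = C(z)`, `z = 2B`.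
-/

set_option autoImplicit false
set_option linter.unusedSectionVars false
set_option linter.constructorNameAsVariable false
set_option maxRecDepth 10000

namespace Cfsg.Agent.H48.Wf.FiTriple

open Cfsg Cfsg.Spor Cfsg.Agent.Fischer.Abstract Cfsg.Agent.LThreeM Cfsg.Agent.LThreeM.SrgFix
open Cfsg.Agent.R01 Cfsg.Agent.R01.Lifts Cfsg.Agent.R08.FiTwentyThree
open Cfsg.Agent.Fischer.Fi23Class (K)
open Cfsg.Agent.Fischer.Fi23Z (z0)
open Cfsg.Agent.LThreeM.FiThree (Triple conjD three23)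

/-- **Parity**: a finite set `A` of involutions, stable under conjugation by its members, of even size, not empty,
contains two different commuting members. -/
theorem exists_comm_pair {G : Type*} [Group G] {A : Set G} (hf : A.Finite) (hsq : ∀ a ∈ A, a * a = 1)
    (hc : ∀ a ∈ A, ∀ b ∈ A, a * b * a⁻¹ ∈ A) (he : Even A.ncard) {a : G} (ha : a ∈ A) :
    ∃ b ∈ A, a ≠ b ∧ a * b = b * a := by
  classical
  by_contra hcon
  push Not at hcon
  set s : Finset G := hf.toFinset.erase a with hs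
  have hmem : ∀ x, x ∈ s ↔ x ≠ a ∧ x ∈ A := fun x => by rw [hs, Finset.mem_erase, Set.Finite.mem_toFinset]
  have hcard : A.ncard = s.card + 1 := by
    rw [Set.ncard_eq_toFinset_card A hf, hs, Finset.card_erase_of_mem (hf.mem_toFinset.2 ha)]
    have : 0 < hf.toFinset.card := Finset.card_pos.2 ⟨a, hf.mem_toFinset.2 ha⟩
    omega
  have h1 : ∑ x ∈ s, (1 : ZMod 2) = 0 := by
    refine Finset.sum_involution (fun x _ => a * x * a⁻¹) (fun _ _ => by decide) (fun x hx _ h => ?_) (fun x hx => ?_)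
      fun x _ => ?_
    · obtain ⟨h2, h3⟩ := (hmem x).1 hx
      exact hcon x h3 h2.symm (mul_inv_eq_iff_eq_mul.1 h)
    · obtain ⟨h2, h3⟩ := (hmem x).1 hx
      refine (hmem _).2 ⟨fun h => h2 ?_, hc a ha x h3⟩
      have h4 : a * x = a * a := mul_inv_eq_iff_eq_mul.1 h
      exact mul_left_cancel h4
    · show a * (a * x * a⁻¹) * a⁻¹ = x
      have h2 := hsq a ha
      calc a * (a * x * a⁻¹) * a⁻¹ = (a * a) * x * (a * a)⁻¹ := by group
        _ = x := by rw [h2]; group
  rw [Finset.sum_const, nsmul_eq_mul, mul_one] at h1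
  have h2 : Even s.card := by
    rw [← ZMod.natCast_eq_zero_iff_even]
    exact h1
  rw [hcard] at he
  rw [Nat.even_add_one] at he
  exact he h2

/-- **Elements of order 3** of `Fi22`. -/
theorem three22' {g : Spor.Fi22} (hg : g ^ 3 = 1) :
    (∃ a ∈ Fi22Facts.T, a ≠ g * a * g⁻¹ ∧ a * (g * a * g⁻¹) = (g * a * g⁻¹) * a) ∨
      (Even {a | a ∈ Fi22Facts.T ∧ g * a = a * g}.ncard ∧ {a | a ∈ Fi22Facts.T ∧ g * a = a * g}.Nonempty) := by
  obtain ⟨h, rfl⟩ := Fi22Facts.E.surjective g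
  have hh : h ^ 3 = 1 := by
    apply Fi22Facts.E.injective
    rw [map_pow, hg, map_one]
  obtain ⟨z, hz⟩ := SrgFix.count Cfsg.Agent.Fischer.Rank22.R FiTwo.nb_card FiTwo.cn_c FiTwo.cn_b (s := -9)
    (by norm_num) (by norm_num) (n := 3) (by norm_num) hh
  by_cases hN : ({x | Adj Cfsg.Agent.Fischer.Rank22.R x (h • x)} : Set _).Nonempty
  · obtain ⟨x, h1⟩ := hN
    refine Or.inl ⟨_, Fi22Facts.mem_T_iff.2 ⟨x, rfl⟩, ?_⟩
    rw [Fi22Facts.E_smul]
    constructor
    · intro e
      exact h1.1 (Cfsg.Agent.Fischer.Rank22.R.t_injective (Fi22Facts.E.injective e))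
    · rw [← map_mul, ← map_mul]
      exact congrArg _ h1.2
  · right
    rw [Set.not_nonempty_iff_eq_empty] at hN
    rw [hN, Set.ncard_empty] at hz
    have e1 : {a | a ∈ Fi22Facts.T ∧ Fi22Facts.E h * a = a * Fi22Facts.E h} =
        (fun x => Fi22Facts.E (Cfsg.Agent.Fischer.Rank22.R.t x)) '' {x | h • x = x} := by
      ext a
      constructor
      · rintro ⟨ha, h1⟩
        obtain ⟨x, rfl⟩ := Fi22Facts.mem_T_iff.1 ha
        refine ⟨x, (Cfsg.Agent.Fischer.Rank22.R.smul_eq_iff_comm h x).2 ?_, rfl⟩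
        apply Fi22Facts.E.injective
        rw [map_mul, map_mul, h1]
      · rintro ⟨x, hx, rfl⟩
        refine ⟨Fi22Facts.mem_T_iff.2 ⟨x, rfl⟩, ?_⟩
        have h1 := (Cfsg.Agent.Fischer.Rank22.R.smul_eq_iff_comm h x).1 hx
        rw [← map_mul, ← map_mul, h1]
    have hinj : Function.Injective fun x => Fi22Facts.E (Cfsg.Agent.Fischer.Rank22.R.t x) := by
      intro y y' e
      exact Cfsg.Agent.Fischer.Rank22.R.t_injective (Fi22Facts.E.injective e)
    rw [e1, Set.ncard_image_of_injective _ hinj]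
    push_cast at hz
    constructor
    · rw [Nat.even_iff]
      omega
    · by_contra hcon
      rw [Set.image_nonempty, Set.not_nonempty_iff_eq_empty] at hcon
      rw [hcon, Set.ncard_empty] at hz
      push_cast at hz
      omega

/-- elements of order 3 of `K` -/
theorem threeK' {g : K} (hg : g ^ 3 = 1) :
    (∃ a ∈ S, ∃ b ∈ S, a ≠ b ∧ a * b = b * a ∧ g * a = a * g ∧ g * b = b * g) ∨
    ∃ a ∈ S, ∃ b ∈ S, ∃ c ∈ S, a ≠ b ∧ a ≠ c ∧ b ≠ c ∧ a * b = b * a ∧ a * c = c * a ∧ b * c = c * b ∧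
      g * (a * b * c) = (a * b * c) * g := by
  rcases three22' (g := pi g) (by rw [← map_pow, hg, map_one]) with ⟨a', ha', h1, h2⟩ | ⟨he, a', ha', h⟩
  · obtain ⟨a, ha, rfl⟩ := lifted.surj a' ha'
    right
    set b := g * a * g⁻¹ with hb
    set c := g * b * g⁻¹ with hc
    have hbS : b ∈ S := lifted.conj g a ha
    have hcS : c ∈ S := lifted.conj g b hbS
    have hca : g * c * g⁻¹ = a := by
      rw [hc, hb]
      calc g * (g * (g * a * g⁻¹) * g⁻¹) * g⁻¹ = g ^ 3 * a * (g ^ 3)⁻¹ := by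
            rw [pow_succ, pow_two]; group
        _ = a := by rw [hg]; group
    have hne : a ≠ b := by
      intro e
      apply h1
      have := congrArg pi e
      rw [hb, map_mul, map_mul, map_inv] at this
      exact this
    have hab : a * b = b * a := by
      apply comm_of_image ha hbS
      rw [hb, map_mul, map_mul, map_inv]
      exact h2
    have hconj : ∀ {x y : K}, x * y = y * x → (g * x * g⁻¹) * (g * y * g⁻¹) = (g * y * g⁻¹) * (g * x * g⁻¹) := by
      intro x y h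
      calc (g * x * g⁻¹) * (g * y * g⁻¹) = g * (x * y) * g⁻¹ := by group
        _ = g * (y * x) * g⁻¹ := by rw [h]
        _ = _ := by group
    have hbc : b * c = c * b := by
      have := hconj hab
      rwa [← hb, ← hc] at this
    have hcaa : c * a = a * c := by
      have := hconj hbc
      rwa [← hc, hca] at this
    have hne2 : b ≠ c := by
      intro e
      apply hne
      have e2 : g * a * g⁻¹ = g * b * g⁻¹ := by rw [← hb, ← hc]; exact e
      exact mul_left_cancel (mul_right_cancel e2)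
    have hne3 : a ≠ c := by
      intro e
      apply hne2
      have e2 : g * c * g⁻¹ = g * b * g⁻¹ := by rw [hca, ← hc]; exact e
      exact (mul_left_cancel (mul_right_cancel e2)).symm
    refine ⟨a, ha, b, hbS, c, hcS, hne, hne3, hne2, hab, hcaa.symm, hbc, ?_⟩
    calc g * (a * b * c) = (g * a * g⁻¹) * (g * b * g⁻¹) * (g * c * g⁻¹) * g := by group
      _ = b * c * a * g := by rw [← hb, ← hc, hca]
      _ = (a * b * c) * g := by rw [mul_assoc b c a, hcaa, ← mul_assoc b a c, ← hab]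
  · left
    have hfin : Finite Fi23 := finite_fi23
    obtain ⟨A, hA⟩ : ∃ A : Set K, A = {a | a ∈ S ∧ g * a = a * g} := ⟨_, rfl⟩
    have hmem : ∀ a : K, a ∈ A ↔ a ∈ S ∧ g * a = a * g := fun a => by rw [hA]; rfl
    have hback : ∀ a ∈ S, pi g * pi a = pi a * pi g → g * a = a * g := by
      intro a ha h
      have h3 : g * a * g⁻¹ = a := by
        apply lifted.inj _ (lifted.conj g a ha) _ ha
        rw [map_mul, map_mul, h, map_inv]
        group
      calc g * a = (g * a * g⁻¹) * g := by group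
        _ = a * g := by rw [h3]
    have hcard : A.ncard = {a | a ∈ Fi22Facts.T ∧ pi g * a = a * pi g}.ncard := by
      refine Set.ncard_congr (fun x _ => pi x) ?_ ?_ ?_
      · intro x hx
        obtain ⟨h1, h2⟩ := (hmem x).1 hx
        exact ⟨lifted.map x h1, by rw [← map_mul, ← map_mul, h2]⟩
      · intro x y hx hy h
        exact lifted.inj x ((hmem x).1 hx).1 y ((hmem y).1 hy).1 h
      · rintro b ⟨hb, h1⟩
        obtain ⟨x, hx, rfl⟩ := lifted.surj b hb
        exact ⟨x, (hmem x).2 ⟨hx, hback x hx h1⟩, rfl⟩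
    obtain ⟨a, ha, rfl⟩ := lifted.surj a' ha'
    have haA : a ∈ A := (hmem a).2 ⟨ha, hback a ha h⟩
    obtain ⟨b, hb, h1, h2⟩ := exists_comm_pair (A := A) (Set.toFinite A) (fun x hx => by
        apply Subtype.ext
        exact sq_D ((hmem x).1 hx).1.1) (fun x hx y hy => by
        obtain ⟨h3, h4⟩ := (hmem x).1 hx
        obtain ⟨h5, h6⟩ := (hmem y).1 hy
        refine (hmem _).2 ⟨lifted.conj x y h5, ?_⟩
        have h7 : g * x⁻¹ = x⁻¹ * g := by
          rw [mul_inv_eq_iff_eq_mul, mul_assoc, h4, inv_mul_cancel_left]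
        calc g * (x * y * x⁻¹) = (g * x) * y * x⁻¹ := by group
          _ = x * (g * y) * x⁻¹ := by rw [h4]; group
          _ = x * y * (g * x⁻¹) := by rw [h6]; group
          _ = x * y * x⁻¹ * g := by rw [h7]; group) (by rw [hcard]; exact he) haA
    exact ⟨a, ha, b, ((hmem b).1 hb).1, h1, h2, ((hmem a).1 haA).2, ((hmem b).1 hb).2⟩

/-- **An element of order 3 of `Fi23` commutes with the product of three commuting transpositions.** -/
theorem triple23 {g : Fi23} (hg : g ^ 3 = 1) : ∃ s : Fi23, Triple s ∧ g * s = s * g := by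
  rcases three23 hg with ⟨a, ha, h⟩ | ⟨a, ha, b, hb, c, hc, h1, h2, h3, h4, h5, h6, h7⟩
  · obtain ⟨u, hu⟩ := conjD ha
    have hk : u * g * u⁻¹ ∈ K := by
      rw [mem_K_iff, ← hu]
      calc u * g * u⁻¹ * (u * a * u⁻¹) = u * (g * a) * u⁻¹ := by group
        _ = u * (a * g) * u⁻¹ := by rw [h]
        _ = _ := by group
    have hk3 : (⟨u * g * u⁻¹, hk⟩ : K) ^ 3 = 1 := by
      apply Subtype.ext
      rw [Subgroup.coe_pow, Subgroup.coe_one]
      change (u * g * u⁻¹) ^ 3 = 1
      rw [conj_pow, hg]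
      group
    have back : ∀ {s : Fi23}, u * g * u⁻¹ * s = s * (u * g * u⁻¹) → g * (u⁻¹ * s * u) = (u⁻¹ * s * u) * g := by
      intro s hs
      calc g * (u⁻¹ * s * u) = u⁻¹ * (u * g * u⁻¹ * s) * u := by group
        _ = u⁻¹ * (s * (u * g * u⁻¹)) * u := by rw [hs]
        _ = _ := by group
    have hcD : ∀ {d : Fi23}, d ∈ D → u⁻¹ * d * u ∈ D := by
      intro d hd
      have := conj_mem_D hd u⁻¹
      rwa [inv_inv] at this
    have hinj : ∀ {d e : Fi23}, d ≠ e → u⁻¹ * d * u ≠ u⁻¹ * e * u := by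
      intro d e h h'
      exact h (mul_left_cancel (mul_right_cancel h'))
    have hcm : ∀ {d e : Fi23}, d * e = e * d → u⁻¹ * d * u * (u⁻¹ * e * u) = u⁻¹ * e * u * (u⁻¹ * d * u) := by
      intro d e h
      calc u⁻¹ * d * u * (u⁻¹ * e * u) = u⁻¹ * (d * e) * u := by group
        _ = u⁻¹ * (e * d) * u := by rw [h]
        _ = _ := by group
    rcases threeK' hk3 with ⟨e, he, f, hf, h1, h2, h3, h4⟩ | ⟨e, he, f, hf, c, hc, h1, h2, h3, h4, h5, h6, h7⟩
    · have h3' : u * g * u⁻¹ * (e : Fi23) = e * (u * g * u⁻¹) := congrArg Subtype.val h3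
      have h4' : u * g * u⁻¹ * (f : Fi23) = f * (u * g * u⁻¹) := congrArg Subtype.val h4
      have hz : u * g * u⁻¹ * z0 = z0 * (u * g * u⁻¹) := (mem_K_iff _).1 hk
      have hze : z0 * (e : Fi23) = e * z0 := ((mem_K_iff _).1 e.2).symm
      have hzf : z0 * (f : Fi23) = f * z0 := ((mem_K_iff _).1 f.2).symm
      refine ⟨u⁻¹ * (z0 * (e : Fi23) * f) * u, ⟨u⁻¹ * z0 * u, hcD z0_mem_D, u⁻¹ * e * u, hcD he.1, u⁻¹ * f * u,
        hcD hf.1, hinj he.2.symm, hinj hf.2.symm, hinj fun h => h1 (Subtype.ext h), hcm hze, hcm hzf,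
        hcm (congrArg Subtype.val h2), by group⟩, back ?_⟩
      calc u * g * u⁻¹ * (z0 * (e : Fi23) * f) = (u * g * u⁻¹ * z0) * e * f := by group
        _ = z0 * (u * g * u⁻¹ * e) * f := by rw [hz]; group
        _ = z0 * e * (u * g * u⁻¹ * f) := by rw [h3']; group
        _ = z0 * e * f * (u * g * u⁻¹) := by rw [h4']; group
    · refine ⟨u⁻¹ * ((e : Fi23) * f * c) * u, ⟨u⁻¹ * e * u, hcD he.1, u⁻¹ * f * u, hcD hf.1,
        u⁻¹ * c * u, hcD hc.1, hinj fun h => h1 (Subtype.ext h), hinj fun h => h2 (Subtype.ext h),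
        hinj fun h => h3 (Subtype.ext h), hcm (congrArg Subtype.val h4), hcm (congrArg Subtype.val h5),
        hcm (congrArg Subtype.val h6), by group⟩, back ?_⟩
      exact congrArg Subtype.val h7
  · exact ⟨a * b * c, ⟨a, ha, b, hb, c, hc, h1, h2, h3, h4, h5, h6, rfl⟩, h7⟩

/-! ### `Fi24'` -/

section Four

open Cfsg.Agent.Fischer.Fi24Class (gen)
open Cfsg.Agent.R08.FiTwentyFour (L facts mem_commutator_iff)
open Cfsg.Agent.R08.TetTwo (IsTet)
open Cfsg.Agent.KFacts.FiTF.Defs (z)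
open Cfsg.Agent.H491.Rad3.FiTF (M mem_M)

/-- the image of a transposition of `Fi23` -/
theorem phi_D {a : Fi23} (ha : a ∈ D) :
    ∃ e ∈ L, e ≠ gen .l ∧ e * gen .l = gen .l * e ∧ facts.phi a = e * gen .l := by
  obtain ⟨k, rfl⟩ := isConj_iff.1 ((gen_mem_D .a).symm.trans ha : IsConj (Fischer.Fi23Hom.gen .a) a)
  have hll : gen .l * gen .l = (1 : Fi24) := Fischer.Fi24Class.gen_sq _
  have hk := facts.phi_comm k
  have hk' : gen .l * (facts.phi k)⁻¹ = (facts.phi k)⁻¹ * gen .l := by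
    rw [mul_inv_eq_iff_eq_mul, mul_assoc, ← hk, inv_mul_cancel_left]
  set e : Fi24 := facts.phi k * gen (Fischer.Fi24Class.emb .a) * (facts.phi k)⁻¹ with he
  have h1 : facts.phi (k * Fischer.Fi23Hom.gen .a * k⁻¹) = e * gen .l := by
    rw [map_mul, map_mul, map_inv, facts.phi_gen, he]
    calc facts.phi k * (gen (Fischer.Fi24Class.emb .a) * gen .l) * (facts.phi k)⁻¹
        = facts.phi k * gen (Fischer.Fi24Class.emb .a) * (gen .l * (facts.phi k)⁻¹) := by group
      _ = _ := by rw [hk']; group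
  have h2 : e * gen .l = gen .l * e := by
    have h3 := facts.phi_comm (k * Fischer.Fi23Hom.gen .a * k⁻¹)
    rw [h1, mul_assoc, hll, mul_one] at h3
    calc e * gen .l = (gen .l * (e * gen .l)) * gen .l := by rw [← h3]
      _ = gen .l * e * (gen .l * gen .l) := by group
      _ = gen .l * e := by rw [hll, mul_one]
  refine ⟨e, R08.FiTwentyFour.conj (R08.FiTwentyFour.gen_mem_L _) _, fun h => ?_, h2, h1⟩
  rw [h, hll] at h1
  exact ne_one_D ha (facts.phi_injective (h1.trans (map_one _).symm))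

/-- the image of a product of three commuting transpositions is a tetrad product -/
theorem phi_triple {s : Fi23} (hs : Triple s) : ∃ a b c d, IsTet L (facts.phi s) a b c d := by
  obtain ⟨a, ha, b, hb, c, hc, h1, h2, h3, h4, h5, h6, rfl⟩ := hs
  obtain ⟨a', ha', na, ca, ea⟩ := phi_D ha
  obtain ⟨b', hb', nb, cb, eb⟩ := phi_D hb
  obtain ⟨c', hc', nc, cc, ec⟩ := phi_D hc
  have hll : gen .l * gen .l = (1 : Fi24) := Fischer.Fi24Class.gen_sq _
  have key : ∀ {x y : Fi23} {x' y' : Fi24}, x * y = y * x → x' * gen .l = gen .l * x' → y' * gen .l = gen .l * y' →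
      facts.phi x = x' * gen .l → facts.phi y = y' * gen .l → x' * y' = y' * x' := by
    intro x y x' y' h cx cy ex ey
    have h7 : facts.phi x * facts.phi y = facts.phi y * facts.phi x := by rw [← map_mul, ← map_mul, h]
    rw [ex, ey] at h7
    have h8 : ∀ {u v : Fi24}, v * gen .l = gen .l * v → u * gen .l * (v * gen .l) = u * v := by
      intro u v hv
      calc u * gen .l * (v * gen .l) = u * (gen .l * (v * gen .l)) := by group
        _ = u * (gen .l * (gen .l * v)) := by rw [hv]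
        _ = u * (gen .l * gen .l) * v := by group
        _ = u * v := by rw [hll, mul_one]
    rwa [h8 cy, h8 cx] at h7
  have kne : ∀ {x y : Fi23} {x' y' : Fi24}, x ≠ y → facts.phi x = x' * gen .l → facts.phi y = y' * gen .l →
      x' ≠ y' := by
    intro x y x' y' h ex ey h'
    apply h
    apply facts.phi_injective
    rw [ex, ey, h']
  refine ⟨a', b', c', gen .l, ha', hb', hc', R08.FiTwentyFour.gen_mem_L _, key h4 ca cb ea eb, key h5 ca cc ea ec, ca,
    key h6 cb cc eb ec, cb, cc, kne h1 ea eb, kne h2 ea ec, na, kne h3 eb ec, nb, nc, ?_⟩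
  rw [map_mul, map_mul, ea, eb, ec]
  calc a' * b' * c' * gen .l = a' * (gen .l * gen .l) * b' * c' * gen .l := by rw [hll, mul_one]
    _ = a' * gen .l * (gen .l * b') * c' * gen .l := by group
    _ = a' * gen .l * (b' * gen .l) * c' * gen .l := by rw [cb]
    _ = a' * gen .l * (b' * gen .l) * (c' * gen .l) := by group

theorem conj_tet {s a b c d : Fi24} (h : IsTet L s a b c d) (g : Fi24) :
    IsTet L (g * s * g⁻¹) (g * a * g⁻¹) (g * b * g⁻¹) (g * c * g⁻¹) (g * d * g⁻¹) := by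
  have hc : ∀ x y : Fi24, Commute x y → Commute (g * x * g⁻¹) (g * y * g⁻¹) := by
    intro x y hxy
    exact hxy.map (MulAut.conj g).toMonoidHom
  have hn : ∀ x y : Fi24, x ≠ y → g * x * g⁻¹ ≠ g * y * g⁻¹ := by
    intro x y hxy e
    exact hxy (mul_left_cancel (mul_right_cancel e))
  refine ⟨R08.FiTwentyFour.conj h.ha g, R08.FiTwentyFour.conj h.hb g, R08.FiTwentyFour.conj h.hc g,
    R08.FiTwentyFour.conj h.hd g, hc _ _ h.ab, hc _ _ h.ac,
    hc _ _ h.ad, hc _ _ h.bc, hc _ _ h.bd, hc _ _ h.cd, hn _ _ h.nab, hn _ _ h.nac, hn _ _ h.nad,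
    hn _ _ h.nbc, hn _ _ h.nbd, hn _ _ h.ncd, ?_⟩
  rw [← h.prod]
  group

/-- **Every element of order 3 of `Fi24'` is conjugate to an element of `M = C(z)`.** -/
theorem exists_M {x : Spor.Fi24'} (hx : x ^ 3 = 1) : ∃ g : Spor.Fi24', g * x * g⁻¹ ∈ M := by
  have hx3 : (x : Fi24) ^ 3 = 1 := congrArg Subtype.val hx
  have hn : (commutator Fi24).Normal := inferInstance
  suffices h : ∃ s : Fi24, (x : Fi24) * s = s * (x : Fi24) ∧ ∃ g ∈ commutator Fi24, g * s * g⁻¹ = z by
    obtain ⟨s, hxs, g, hg, hgs⟩ := h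
    refine ⟨⟨g, hg⟩, ?_⟩
    rw [mem_M]
    show g * (x : Fi24) * g⁻¹ * z = z * (g * (x : Fi24) * g⁻¹)
    rw [← hgs]
    calc g * (x : Fi24) * g⁻¹ * (g * s * g⁻¹) = g * ((x : Fi24) * s) * g⁻¹ := by group
      _ = g * (s * (x : Fi24)) * g⁻¹ := by rw [hxs]
      _ = _ := by group
  by_cases he : ∀ d ∈ L, d * (x : Fi24) ≠ (x : Fi24) * d
  · obtain ⟨s, hs, hxs, hs2, hs1⟩ := Cfsg.Agent.H844.NB.exists_inv_of_not hx3 he
    exact ⟨s, hxs, Cfsg.Agent.LThreeFi24.EmptyTwo.invol_aux hx3 he hs hs2 hs1 hxs.symm⟩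
  push Not at he
  obtain ⟨d, hd, hdx⟩ := he
  obtain ⟨c, rfl⟩ := isConj_iff.1 (show IsConj (gen .l) d from hd)
  -- `c⁻¹ x c` commutes with `l`
  have h1 : (c⁻¹ * x * c) * gen .l = gen .l * (c⁻¹ * x * c) := by
    calc (c⁻¹ * x * c) * gen .l = c⁻¹ * (x * (c * gen .l * c⁻¹)) * c := by group
      _ = c⁻¹ * ((c * gen .l * c⁻¹) * x) * c := by rw [hdx]
      _ = _ := by group
  have h2 : c⁻¹ * (x : Fi24) * c ∈ commutator Fi24 := by
    have := hn.conj_mem x x.2 c⁻¹
    rwa [inv_inv] at this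
  obtain ⟨k, hk⟩ := (facts.mem_range_iff _).2 ⟨h1, mem_commutator_iff.1 h2⟩
  have hk3 : k ^ 3 = 1 := by
    apply facts.phi_injective
    rw [map_pow, hk, map_one]
    have := conj_pow (i := 3) (a := c⁻¹) (b := (x : Fi24))
    rw [inv_inv] at this
    rw [this, hx3]
    group
  obtain ⟨s, hs1, hs2⟩ := triple23 hk3
  obtain ⟨a, b, e, f, hT⟩ := phi_triple hs1
  have hT' := conj_tet hT c
  refine ⟨c * facts.phi s * c⁻¹, ?_, ?_⟩
  · have h3 : (c⁻¹ * x * c) * facts.phi s = facts.phi s * (c⁻¹ * x * c) := by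
      rw [← hk, ← map_mul, ← map_mul, hs2]
    calc (x : Fi24) * (c * facts.phi s * c⁻¹) = c * ((c⁻¹ * x * c) * facts.phi s) * c⁻¹ := by group
      _ = c * (facts.phi s * (c⁻¹ * x * c)) * c⁻¹ := by rw [h3]
      _ = _ := by group
  · obtain ⟨g, hg, h4, h5, h6, h7⟩ := R08.TetBig.quad R08.TetBigInst.hyp hT' KFacts.FiTF.Order.hT
    refine ⟨g, hg, ?_⟩
    rw [← hT'.prod]
    calc g * (c * a * c⁻¹ * (c * b * c⁻¹) * (c * e * c⁻¹) * (c * f * c⁻¹)) * g⁻¹ =
        (g * (c * a * c⁻¹) * g⁻¹) * (g * (c * b * c⁻¹) * g⁻¹) * (g * (c * e * c⁻¹) * g⁻¹) *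
          (g * (c * f * c⁻¹) * g⁻¹) := by group
      _ = z := by rw [h4, h5, h6, h7, KFacts.FiTF.Order.hT.prod]

end Four

end Cfsg.Agent.H48.Wf.FiTriple
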